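import Cfsg.Agent.Lib.Cores
import Cfsg.Agent.Lib.HallHigman
import Cfsg.Agent.Lib.MinNormalNonabelian
import Cfsg.Agent.Lib.ElemAbGL
import Cfsg.Prelude.Def_CaseTheorems
import Mathlib.GroupTheory.IsPerfect

/-!
# S4907, DM19 (b), (c): solvable normal subgroups of perfect groups (helper456)

`G` perfect, `M` normal and solvable, `G / M` simple nonabelian, `l` a prime such that `|G / M|` does not divide
`|GL_j(l)|` for all `j ≥ 1` with `l ^ j ∣ |M|`.  Then `M / O_{l'}(M)` is a central `l`-subgroup of `G / O_{l'}(M)`.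
-/

set_option autoImplicit false
set_option linter.unusedSectionVars false

namespace Cfsg.Agent.H456.DM.Cover

open Subgroup
open Cfsg.Agent.Lib.MinNormalNonabelian
open scoped commutatorElement

universe u

/-- a solvable image of a perfect group is trivial -/
theorem eq_one_of_solvable {G X : Type*} [Group G] [Group X] (hG : Group.IsPerfect G) (f : G →* X)
    (hs : Group.IsSolvable f.range) (g : G) : f g = 1 := by
  have h1 : Group.IsPerfect f.range := Group.IsPerfect.ofSurjective f.rangeRestrict_surjective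
  have h2 : Subsingleton f.range := by
    by_contra hcon
    rw [not_subsingleton_iff_nontrivial] at hcon
    exact Group.IsPerfect.not_isSolvable (G := f.range) hs
  have h3 : (⟨f g, ⟨g, rfl⟩⟩ : f.range) = 1 := Subsingleton.elim _ _
  exact congrArg Subtype.val h3

theorem eq_one_of_comm {G X : Type*} [Group G] [Group X] (hG : Group.IsPerfect G) (f : G →* X)
    (hs : ∀ g h : G, f g * f h = f h * f g) (g : G) : f g = 1 := by
  apply eq_one_of_solvable hG f
  apply Group.isSolvable_of_comm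
  rintro ⟨_, a, rfl⟩ ⟨_, b, rfl⟩
  exact Subtype.ext (hs a b)

/-- an element all of whose commutators are central is central (in a perfect group) -/
theorem mem_center_of_comm {G : Type*} [Group G] (hG : Group.IsPerfect G) {x : G}
    (h : ∀ g : G, g * x * g⁻¹ * x⁻¹ ∈ center G) : x ∈ center G := by
  let f : G →* center G :=
    { toFun := fun g => ⟨g * x * g⁻¹ * x⁻¹, h g⟩
      map_one' := Subtype.ext (by simp)
      map_mul' := fun a b => Subtype.ext (by
        show a * b * x * (a * b)⁻¹ * x⁻¹ = (a * x * a⁻¹ * x⁻¹) * (b * x * b⁻¹ * x⁻¹)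
        have h1 := mem_center_iff.1 (h b) a
        calc a * b * x * (a * b)⁻¹ * x⁻¹ = a * (b * x * b⁻¹ * x⁻¹) * (x * a⁻¹ * x⁻¹) := by group
          _ = (b * x * b⁻¹ * x⁻¹) * a * (x * a⁻¹ * x⁻¹) := by rw [h1]
          _ = (b * x * b⁻¹ * x⁻¹) * (a * x * a⁻¹ * x⁻¹) := by group
          _ = (a * x * a⁻¹ * x⁻¹) * (b * x * b⁻¹ * x⁻¹) := by rw [(mem_center_iff.1 (h b) _)]) }
  have h1 : ∀ g, f g = 1 := eq_one_of_comm hG f fun a b => Subtype.ext (mem_center_iff.1 (f b).2 _)
  rw [mem_center_iff]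
  intro g
  have h2 : g * x * g⁻¹ * x⁻¹ = 1 := congrArg Subtype.val (h1 g)
  have h3 := mul_inv_eq_one.1 h2
  exact mul_inv_eq_iff_eq_mul.1 h3

section

variable {G : Type*} [Group G] [Finite G]

/-- normal subgroups not contained in `M` are everything -/
theorem eq_top_of_not_le (hG : Group.IsPerfect G) (M : Subgroup G) [M.Normal] (hs : IsSimpleGroup (G ⧸ M))
    (hM : Group.IsSolvable M) {C : Subgroup G} (hC : C.Normal) (h : ¬ C ≤ M) : C = ⊤ := by
  have h1 : C.map (QuotientGroup.mk' M) = ⊤ := by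
    refine (hs.eq_bot_or_eq_top_of_normal _ (hC.map _ (QuotientGroup.mk'_surjective M))).resolve_left fun h2 => h ?_
    rwa [Subgroup.map_eq_bot_iff, QuotientGroup.ker_mk'] at h2
  have h2 : C ⊔ M = ⊤ := by
    have h3 := congrArg (Subgroup.comap (QuotientGroup.mk' M)) h1
    rwa [Subgroup.comap_map_eq, QuotientGroup.ker_mk', Subgroup.comap_top] at h3
  rw [eq_top_iff]
  intro g _
  have h3 : QuotientGroup.mk' C g = 1 := by
    apply eq_one_of_solvable hG (QuotientGroup.mk' C)
    have h4 : (QuotientGroup.mk' C).range = M.map (QuotientGroup.mk' C) := by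
      rw [MonoidHom.range_eq_map, ← h2, Subgroup.map_sup]
      have : C.map (QuotientGroup.mk' C) = ⊥ := by
        rw [Subgroup.map_eq_bot_iff, QuotientGroup.ker_mk']
      rw [this, bot_sup_eq]
    rw [h4]
    exact Group.isSolvable_of_surjective (f := (QuotientGroup.mk' C).subgroupMap M)
      ((QuotientGroup.mk' C).subgroupMap_surjective M)
  exact (QuotientGroup.eq_one_iff g).1 h3

/-- no action on small elementary abelian groups -/
theorem act_trivial (hG : Group.IsPerfect G) (M : Subgroup G) [M.Normal] (hs : IsSimpleGroup (G ⧸ M))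
    (hM : Group.IsSolvable M) {l : ℕ} (hl : l.Prime) {V : Type*} [Group V] [Finite V]
    (hc : ∀ x y : V, x * y = y * x) (hp : ∀ x : V, x ^ l = 1) {j : ℕ} (hj : Nat.card V = l ^ j)
    (h : ¬ Nat.card (G ⧸ M) ∣ Nat.card (GL (Fin j) (ZMod l))) (φ : G →* MulAut V) (g : G) : φ g = 1 := by
  have hlf : Fact l.Prime := ⟨hl⟩
  let _ : CommGroup V := { (inferInstance : Group V) with mul_comm := hc }
  obtain ⟨e⟩ := Lib.ElemAbGL.mulAut_equiv_GL (V := V) l j hp hj
  have hker : φ.ker = ⊤ := by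
    apply eq_top_of_not_le hG M hs hM inferInstance
    intro hle
    apply h
    have h1 : Nat.card (G ⧸ M) ∣ φ.ker.index := by
      rw [← Subgroup.index_eq_card]; exact Subgroup.index_dvd_of_le hle
    have h2 : φ.ker.index ∣ Nat.card (MulAut V) := by
      rw [Subgroup.index_ker]; exact Subgroup.card_subgroup_dvd_card _
    rw [← Nat.card_congr e.toEquiv]
    exact h1.trans h2
  have : g ∈ φ.ker := by rw [hker]; trivial
  exact this

/-- a solvable minimal normal subgroup is abelian -/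
theorem minimal_solvable {X : Type*} [Group X] [Finite X] (V : Subgroup X) [hVn : V.Normal]
    (hmin : ∀ K : Subgroup X, K.Normal → K ≤ V → K = ⊥ ∨ K = V) (hV1 : V ≠ ⊥) (hV : Group.IsSolvable V) :
    ∀ x ∈ V, ∀ y ∈ V, x * y = y * x := by
  have h1 : (⁅V, V⁆ : Subgroup X).Normal := inferInstance
  rcases hmin ⁅V, V⁆ h1 (Subgroup.commutator_le_self V) with h2 | h2
  · intro x hx y hy
    have h3 : ⁅x, y⁆ ∈ (⁅V, V⁆ : Subgroup X) := Subgroup.commutator_mem_commutator hx hy
    rw [h2, Subgroup.mem_bot] at h3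
    exact commutatorElement_eq_one_iff_mul_comm.1 h3
  · exfalso
    have h3 : Group.IsPerfect V := Subgroup.isPerfect_iff.2 h2
    have h4 : Nontrivial V := (Subgroup.nontrivial_iff_ne_bot V).2 hV1
    exact Group.IsPerfect.not_isSolvable (G := V) hV

theorem minimal_pgroup {X : Type*} [Group X] [Finite X] (V : Subgroup X) [hVn : V.Normal]
    (hmin : ∀ K : Subgroup X, K.Normal → K ≤ V → K = ⊥ ∨ K = V) (hV1 : V ≠ ⊥) {l : ℕ} [hl : Fact l.Prime]
    (hV : IsPGroup l V) : (∀ x ∈ V, ∀ y ∈ V, x * y = y * x) ∧ ∀ x ∈ V, x ^ l = 1 := by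
  have h1 := minimal_solvable V hmin hV1 (by
    have := hV.isNilpotent
    infer_instance)
  obtain ⟨p, hp, hpV, hpow⟩ := abelian_structure V hV1 hmin h1
  have hpl : p = l := by
    obtain ⟨x, hx, hx1⟩ : ∃ x ∈ V, x ≠ 1 := by
      by_contra hcon
      push Not at hcon
      exact hV1 ((Subgroup.eq_bot_iff_forall V).2 hcon)
    obtain ⟨k, hk⟩ := hV ⟨x, hx⟩
    have hk' : x ^ l ^ k = 1 := congrArg Subtype.val hk
    have h2 := orderOf_dvd_of_pow_eq_one hk'
    have h3 := orderOf_dvd_of_pow_eq_one (hpow x hx)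
    have h4 : orderOf x = p := ((Nat.dvd_prime hp).1 h3).resolve_left fun h => hx1 (orderOf_eq_one_iff.1 h)
    rw [h4] at h2
    exact (Nat.prime_dvd_prime_iff_eq hp hl.out).1 (hp.dvd_of_dvd_pow h2)
  rw [hpl] at hpow
  exact ⟨h1, hpow⟩

/-- the numeric hypothesis for the prime `l` -/
def NoGL (l : ℕ) (M : Subgroup G) [M.Normal] : Prop :=
  ∀ j : ℕ, 1 ≤ j → l ^ j ∣ Nat.card M → ¬ Nat.card (G ⧸ M) ∣ Nat.card (GL (Fin j) (ZMod l))

/-- **normal `l`-subgroups of `G` in `M` are central** -/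
theorem central_pgroup (hG : Group.IsPerfect G) (M : Subgroup G) [M.Normal] (hs : IsSimpleGroup (G ⧸ M))
    (hM : Group.IsSolvable M) {l : ℕ} [hl : Fact l.Prime] (h : NoGL l M) :
    ∀ (n : ℕ) (F : Subgroup G), Nat.card F = n → F.Normal → F ≤ M → IsPGroup l F → F ≤ center G := by
  intro n
  induction n using Nat.strong_induction_on with
  | _ n ih =>
    intro F hn hF hFM hFl
    by_cases hF1 : F = ⊥
    · rw [hF1]; exact bot_le
    -- a maximal normal subgroup of `G` below `F`
    obtain ⟨F₁, ⟨hF₁n, hF₁lt⟩, hF₁max⟩ : ∃ F₁ : Subgroup G, (F₁.Normal ∧ F₁ < F) ∧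
        ∀ K : Subgroup G, (K.Normal ∧ K < F) → ¬ F₁ < K := by
      obtain ⟨A', hA'⟩ := (Set.toFinite {B : Subgroup G | B.Normal ∧ B < F}).exists_maximal
        ⟨⊥, inferInstance, bot_lt_iff_ne_bot.2 hF1⟩
      exact ⟨A', hA'.1, fun K hK hlt => absurd (hA'.2 hK hlt.le) (not_le_of_gt hlt)⟩
    have hcard : Nat.card F₁ < n := by
      rw [← hn]
      by_contra hcon
      exact hF₁lt.ne (Subgroup.eq_of_le_of_card_ge hF₁lt.le (not_lt.1 hcon))
    have hF₁c := ih _ hcard F₁ rfl hF₁n (hF₁lt.le.trans hFM) (hFl.to_le hF₁lt.le)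
    -- the chief factor
    set V := F.map (QuotientGroup.mk' F₁) with hVdef
    have hVn : V.Normal := hF.map _ (QuotientGroup.mk'_surjective F₁)
    have hVcomap : V.comap (QuotientGroup.mk' F₁) = F := by
      rw [hVdef, Subgroup.comap_map_eq, QuotientGroup.ker_mk', sup_eq_left]; exact hF₁lt.le
    have hV1 : V ≠ ⊥ := by
      intro h1
      rw [hVdef, Subgroup.map_eq_bot_iff, QuotientGroup.ker_mk'] at h1
      exact hF₁lt.not_ge h1
    have hmin : ∀ K : Subgroup (G ⧸ F₁), K.Normal → K ≤ V → K = ⊥ ∨ K = V := by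
      intro K hK hKV
      have h1 : F₁ ≤ K.comap (QuotientGroup.mk' F₁) := by
        intro x hx
        have h0 : QuotientGroup.mk' F₁ x = 1 := (QuotientGroup.eq_one_iff x).2 hx
        show QuotientGroup.mk' F₁ x ∈ K
        rw [h0]; exact one_mem _
      have h2 : K.comap (QuotientGroup.mk' F₁) ≤ F := by
        rw [← hVcomap]; exact Subgroup.comap_mono hKV
      have h3 : K = (K.comap (QuotientGroup.mk' F₁)).map (QuotientGroup.mk' F₁) :=
        (Subgroup.map_comap_eq_self_of_surjective (QuotientGroup.mk'_surjective F₁) K).symm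
      by_cases h4 : K.comap (QuotientGroup.mk' F₁) = F
      · right; rw [h3, h4]
      · left
        have h5 := hF₁max _ ⟨hK.comap _, lt_of_le_of_ne h2 h4⟩
        have h6 : K.comap (QuotientGroup.mk' F₁) = F₁ := by
          by_contra h7
          exact h5 (lt_of_le_of_ne h1 (Ne.symm h7))
        rw [h3, h6, Subgroup.map_eq_bot_iff, QuotientGroup.ker_mk']
    have hVl : IsPGroup l V := hFl.map _
    obtain ⟨hVc, hVp⟩ := minimal_pgroup V hmin hV1 hVl
    obtain ⟨j, hj⟩ := IsPGroup.iff_card.1 hVl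
    have hj0 : 1 ≤ j := by
      rcases Nat.eq_zero_or_pos j with h0 | h0
      · exfalso
        rw [h0, pow_zero] at hj
        exact hV1 (Subgroup.card_eq_one.1 hj)
      · exact h0
    have hjd : l ^ j ∣ Nat.card M := by
      rw [← hj]
      exact (Subgroup.card_map_dvd F (QuotientGroup.mk' F₁)).trans (Subgroup.card_dvd_of_le hFM)
    have hact := act_trivial hG M hs hM hl.out (V := V) (fun x y => Subtype.ext (hVc x x.2 y y.2))
      (fun x => Subtype.ext (hVp x x.2)) hj (h j hj0 hjd)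
      ((MulAut.conjNormal : G ⧸ F₁ →* MulAut V).comp (QuotientGroup.mk' F₁))
    intro x hx
    apply mem_center_of_comm hG
    intro g
    apply hF₁c
    have h1 := congrArg (fun φ : MulAut V => ((φ ⟨QuotientGroup.mk' F₁ x, ⟨x, hx, rfl⟩⟩ : V) : G ⧸ F₁)) (hact g)
    have h2 : QuotientGroup.mk' F₁ (g * x * g⁻¹) = QuotientGroup.mk' F₁ x := by
      rw [map_mul, map_mul, map_inv]
      exact h1
    have h3 : QuotientGroup.mk' F₁ (g * x * g⁻¹ * x⁻¹) = 1 := by
      rw [map_mul, h2, map_inv, mul_inv_cancel]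
    exact (QuotientGroup.eq_one_iff _).1 h3

theorem simple_of_equiv {X Y : Type*} [Group X] [Group Y] (hX : IsSimpleGroup X) (e : X ≃* Y) : IsSimpleGroup Y := by
  have : Nontrivial Y := e.symm.toEquiv.nontrivial
  exact IsSimpleGroup.isSimpleGroup_of_surjective e.toMonoidHom e.surjective

/-- **`M / O_{l'}(M)` is a central `l`-group** -/
theorem quotient_central (hG : Group.IsPerfect G) (M : Subgroup G) [hMn : M.Normal] (hs : IsSimpleGroup (G ⧸ M))
    (hM : Group.IsSolvable M) {l : ℕ} (hl : l.Prime) (h : NoGL l M) :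
    ∃ (O : Subgroup G) (_ : O.Normal), O ≤ M ∧ (Nat.card O).Coprime l ∧
      M.map (QuotientGroup.mk' O) ≤ center (G ⧸ O) ∧ IsPGroup l (M.map (QuotientGroup.mk' O)) := by
  have hlf : Fact l.Prime := ⟨hl⟩
  have hPn := Lib.Cores.pPrimeCore_normal l (G := G)
  set O := M ⊓ Cfsg.pPrimeCore l G with hO
  have hOn : O.Normal := inferInstance
  have hOM : O ≤ M := inf_le_left
  have hOc : (Nat.card O).Coprime l :=
    (Lib.Cores.pPrimeCore_coprime (G := G) l).coprime_dvd_left (Subgroup.card_dvd_of_le inf_le_right)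
  set MM := M.map (QuotientGroup.mk' O) with hMM
  have hMMn : MM.Normal := hMn.map _ (QuotientGroup.mk'_surjective O)
  have hEp : Group.IsPerfect (G ⧸ O) := inferInstance
  let e : (G ⧸ O) ⧸ MM ≃* G ⧸ M := QuotientGroup.quotientQuotientEquivQuotient O M hOM
  have hEs : IsSimpleGroup ((G ⧸ O) ⧸ MM) := simple_of_equiv hs e.symm
  have hMMs : Group.IsSolvable MM :=
    Group.isSolvable_of_surjective (f := (QuotientGroup.mk' O).subgroupMap M)
      ((QuotientGroup.mk' O).subgroupMap_surjective M)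
  have hNo : NoGL l MM := by
    intro j hj hd hdd
    apply h j hj (hd.trans (Subgroup.card_map_dvd M (QuotientGroup.mk' O)))
    rwa [Nat.card_congr e.toEquiv] at hdd
  have hcomap : MM.comap (QuotientGroup.mk' O) = M := by
    rw [hMM, Subgroup.comap_map_eq, QuotientGroup.ker_mk', sup_eq_left]; exact hOM
  have hcore : Cfsg.pPrimeCore l MM = ⊥ := by
    have h1 : (Cfsg.pPrimeCore l MM).map MM.subtype = ⊥ := by
      rw [Lib.Cores.map_subtype_pPrimeCore l hMMn]
      have h2 : (MM ⊓ Cfsg.pPrimeCore l (G ⧸ O)).comap (QuotientGroup.mk' O) = O := by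
        rw [Subgroup.comap_inf, hcomap, Lib.Cores.comap_mk_pPrimeCore l hOc]
      rw [← Subgroup.map_comap_eq_self_of_surjective (QuotientGroup.mk'_surjective O)
        (MM ⊓ Cfsg.pPrimeCore l (G ⧸ O)), h2, Subgroup.map_eq_bot_iff, QuotientGroup.ker_mk']
    exact (Subgroup.map_eq_bot_iff_of_injective _ MM.subtype_injective).1 h1
  have hHH := Lib.HallHigman.centralizer_pCore_le_of_solvable (G := MM) l hcore
  have hF : (Cfsg.pCore l MM).map MM.subtype ≤ center (G ⧸ O) := by
    have hch := Lib.Cores.pCore_characteristic (G := MM) l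
    refine central_pgroup hEp MM hEs hMMs hNo _ _ rfl inferInstance (Subgroup.map_subtype_le _) ?_
    exact (Lib.Cores.pCore_isPGroup l).map _
  have hle : MM ≤ (Cfsg.pCore l MM).map MM.subtype := by
    intro x hx
    refine ⟨⟨x, hx⟩, hHH ?_, rfl⟩
    rw [Subgroup.mem_centralizer_iff]
    intro y hy
    have h1 := hF ⟨y, hy, rfl⟩
    exact Subtype.ext ((mem_center_iff.1 h1 x).symm)
  refine ⟨O, hOn, hOM, hOc, hle.trans hF, ?_⟩
  exact ((Lib.Cores.pCore_isPGroup (G := MM) l).map MM.subtype).to_le hle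

/-- **DM19 (b)** -/
theorem cover_of' {G : Type u} [Group G] [Finite G] (hG : Group.IsPerfect G) (M : Subgroup G) [hMn : M.Normal]
    (hs : IsSimpleGroup (G ⧸ M)) (hna : ¬ ∀ a b : G ⧸ M, a * b = b * a)
    (hM : Group.IsSolvable M) {l : ℕ} (hl : l.Prime) (h : NoGL l M) :
    ∃ (E : Type u) (_ : Group E) (_ : Finite E), Cfsg.IsQuasisimple E ∧ Nonempty (E ⧸ Subgroup.center E ≃* G ⧸ M) ∧
      Nat.card (Subgroup.center E) = l ^ (Nat.card M).factorization l := by
  obtain ⟨O, hOn, hOM, hOc, hcen, hpg⟩ := quotient_central hG M hs hM hl h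
  have hlf : Fact l.Prime := ⟨hl⟩
  set MM := M.map (QuotientGroup.mk' O) with hMM
  have hMMn : MM.Normal := hMn.map _ (QuotientGroup.mk'_surjective O)
  let e : (G ⧸ O) ⧸ MM ≃* G ⧸ M := QuotientGroup.quotientQuotientEquivQuotient O M hOM
  have hcz : center (G ⧸ O) = MM := by
    apply le_antisymm _ hcen
    have h1 : (center (G ⧸ O)).map (QuotientGroup.mk' MM) = ⊥ := by
      have h2 : ((center (G ⧸ O)).map (QuotientGroup.mk' MM)).Normal :=
        Subgroup.Normal.map inferInstance _ (QuotientGroup.mk'_surjective MM)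
      have hEs : IsSimpleGroup ((G ⧸ O) ⧸ MM) := simple_of_equiv hs e.symm
      refine (hEs.eq_bot_or_eq_top_of_normal _ h2).resolve_right fun h3 => hna ?_
      intro a b
      apply e.symm.injective
      rw [map_mul, map_mul]
      have h4 : e.symm a ∈ (center (G ⧸ O)).map (QuotientGroup.mk' MM) := by rw [h3]; trivial
      obtain ⟨x, hx, hxa⟩ := h4
      obtain ⟨y, hy⟩ := QuotientGroup.mk'_surjective MM (e.symm b)
      rw [← hxa, ← hy, ← map_mul, ← map_mul, mem_center_iff.1 hx y]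
    rwa [Subgroup.map_eq_bot_iff, QuotientGroup.ker_mk'] at h1
  have hcard : Nat.card (center (G ⧸ O)) = l ^ (Nat.card M).factorization l := by
    rw [hcz]
    obtain ⟨k, hk⟩ := IsPGroup.iff_card.1 hpg
    have h1 : Nat.card M = Nat.card O * Nat.card MM := by
      have h2 : MM.comap (QuotientGroup.mk' O) = M := by
        rw [hMM, Subgroup.comap_map_eq, QuotientGroup.ker_mk', sup_eq_left]; exact hOM
      rw [← h2]
      exact QuotientGroup.card_preimage_mk O (MM : Set (G ⧸ O))
    have h3 : (Nat.card M).factorization l = k := by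
      rw [h1, hk, Nat.factorization_mul Nat.card_pos.ne' (pow_ne_zero _ hl.ne_zero), Finsupp.add_apply,
        hl.factorization_pow, Finsupp.single_eq_same,
        Nat.factorization_eq_zero_of_not_dvd (fun h => by
          have := Nat.dvd_gcd h (dvd_refl l)
          rw [hOc] at this
          exact hl.one_lt.ne' (Nat.dvd_one.1 this)), zero_add]
    rw [hk, h3]
  refine ⟨G ⧸ O, inferInstance, inferInstance, ⟨inferInstance, ?_⟩, ?_, hcard⟩
  · have hEs : IsSimpleGroup ((G ⧸ O) ⧸ MM) := simple_of_equiv hs e.symm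
    exact simple_of_equiv hEs (QuotientGroup.quotientMulEquivOfEq hcz.symm)
  · exact ⟨(QuotientGroup.quotientMulEquivOfEq hcz).trans e⟩

/-- **DM19 (b)** with the hypothesis for all `j` -/
theorem cover_of {G : Type u} [Group G] [Finite G] (hG : Group.IsPerfect G) (M : Subgroup G) [M.Normal]
    (hs : IsSimpleGroup (G ⧸ M)) (hna : ¬ ∀ a b : G ⧸ M, a * b = b * a)
    (hM : Group.IsSolvable M) {l : ℕ} (hl : l.Prime)
    (h : ∀ j : ℕ, l ^ j ∣ Nat.card M → ¬ Nat.card (G ⧸ M) ∣ Nat.card (GL (Fin j) (ZMod l))) :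
    ∃ (E : Type u) (_ : Group E) (_ : Finite E), Cfsg.IsQuasisimple E ∧ Nonempty (E ⧸ Subgroup.center E ≃* G ⧸ M) ∧
      Nat.card (Subgroup.center E) = l ^ (Nat.card M).factorization l :=
  cover_of' hG M hs hna hM hl fun j _ => h j

/-- **DM19 (c)** -/
theorem le_center_of (hG : Group.IsPerfect G) (M : Subgroup G) [hMn : M.Normal] (hs : IsSimpleGroup (G ⧸ M))
    (hM : Group.IsSolvable M)
    (h : ∀ l : ℕ, l.Prime → ∀ j : ℕ, 1 ≤ j → l ^ j ∣ Nat.card M →
      ¬ Nat.card (G ⧸ M) ∣ Nat.card (GL (Fin j) (ZMod l))) : M ≤ center G := by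
  have h1 : Nat.card (⁅M, (⊤ : Subgroup G)⁆ : Subgroup G) = 1 := by
    by_contra hcon
    obtain ⟨l, hl, hld⟩ := Nat.exists_prime_and_dvd hcon
    obtain ⟨O, hOn, hOM, hOc, hcen, -⟩ := quotient_central hG M hs hM hl (h l hl)
    have h2 : (⁅M, (⊤ : Subgroup G)⁆ : Subgroup G) ≤ O := by
      rw [Subgroup.commutator_le]
      intro m hm g _
      rw [← QuotientGroup.eq_one_iff]
      have h3 := mem_center_iff.1 (hcen ⟨m, hm, rfl⟩) (QuotientGroup.mk' O g)
      show QuotientGroup.mk' O ⁅m, g⁆ = 1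
      rw [map_commutatorElement]
      exact commutatorElement_eq_one_iff_mul_comm.2 h3.symm
    have h3 : l ∣ Nat.card O := hld.trans (Subgroup.card_dvd_of_le h2)
    have := Nat.dvd_gcd h3 (dvd_refl l)
    rw [hOc] at this
    exact hl.one_lt.ne' (Nat.dvd_one.1 this)
  rw [Subgroup.card_eq_one] at h1
  intro m hm
  rw [mem_center_iff]
  intro g
  have h2 : ⁅m, g⁆ ∈ (⁅M, (⊤ : Subgroup G)⁆ : Subgroup G) := Subgroup.commutator_mem_commutator hm trivial
  rw [h1, Subgroup.mem_bot] at h2
  exact (commutatorElement_eq_one_iff_mul_comm.1 h2).symm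

end

end Cfsg.Agent.H456.DM.Cover
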