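import Cfsg.Agent.H456.DM.Quot
import Cfsg.Agent.H733.DM.RowSp6
import Cfsg.Agent.H604.DM.Gen
import Cfsg.Agent.H294.DM.Tool
import Cfsg.Agent.H277.DM.USix
import Cfsg.Agent.H664.R1.U3Deg
import Cfsg.Agent.H18.USix
import Cfsg.Agent.S2036
import Cfsg.Agent.S2091

/-!
# S4907, exceptional row `U₆(2)` (helper456, DM26)

`row_u6`: a group with the same character degrees as a cover `H` of `U₆(2)` with centre of even order is isomorphic
to `H`.

`|H| = z · 2¹⁵ 3⁶ 5 7 11`, `z ∣ 12`. The number `7` is no degree of `H`: it would be a degree of `U₆(2)`. `G` has simple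
quotients of order divisible by `7` and by `11`. A simple group of order dividing `2¹⁷ 3⁷ 7` has degree `7`; so one
quotient has order divisible by `77`: it is `M₂₂` or `U₆(2)`. For `M₂₂` there would be a central extension with centre of
order `81` at least.
-/

set_option autoImplicit false
set_option linter.unusedSectionVars false

namespace Cfsg.Agent.H456.DM.USix

open Cfsg Subgroup
open scoped commutatorElement
open Cfsg.Agent.H700.DM
open Cfsg.Agent.OrdDiv (OrderTable cands ordN Real)
open Cfsg.Agent.H733.DM.RowSp6 (center_dvd center_dvd_cyclic center_eq_bot isQuasisimple_of_simple hasDeg_quotient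
  hasDeg_of_mem not_comm)

universe u v

theorem charP_two {F : Type} [Field F] [Fintype F] (hF : Fintype.card F = 4) : CharP F 2 := by
  obtain ⟨p, hp⟩ := CharP.exists F
  have : Fact p.Prime := ⟨CharP.char_is_prime F p⟩
  obtain ⟨n, hpp, hn⟩ := FiniteField.card F p
  have h1 : p ∣ 2 ^ 2 := by rw [show 2 ^ 2 = 4 by norm_num, ← hF, hn]; exact dvd_pow_self p n.ne_zero
  have h3 := (Nat.prime_dvd_prime_iff_eq hpp Nat.prime_two).1 (hpp.dvd_of_dvd_pow h1)
  subst h3
  exact hp

/-! ### The degree seven -/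

/-- `U₆(2)` has no irreducible degree `7`. -/
theorem not_hasDeg_psu {F : Type} [Field F] [Fintype F] (hF : Fintype.card F = 4) {K : Type u} [Group K] [Finite K]
    [IsSimpleGroup K] (hna : ¬ ∀ a b : K, a * b = b * a) (e : K ≃* PSU 6 F 2) : ¬ HasDeg 7 K := by
  have hp2 : Fact (Nat.Prime 2) := ⟨Nat.prime_two⟩
  have hF2 : CharP F 2 := charP_two hF
  have hcen := center_eq_bot hna
  let ε : K ⧸ center K ≃* K := (QuotientGroup.quotientMulEquivOfEq hcen).trans QuotientGroup.quotientBot
  have h1 : LowDeg ((2 - 1) * 2 ^ (6 - 2)) K := H887.DM.low_psu (p := 2) (isQuasisimple_of_simple hna)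
    (by rw [hcen, Subgroup.card_bot]; norm_num) (F := F) (q := 2) (by rw [hF]; norm_num) (n := 6) (by norm_num)
    (ε.trans e)
  rintro ⟨χ, hχ⟩
  rcases h1 χ with h | h <;> rw [hχ] at h <;> norm_num at h

/-- An irreducible character of degree prime to the order of the centre of a perfect group is trivial on the centre. -/
theorem center_trivial {H : Type v} [Group H] [Finite H] (hperf : commutator H = ⊤) {χ : H → ℂ}
    (hχ : IsIrrCharacter H χ) (hcop : (charDegree χ).Coprime (Nat.card (center H))) {g : H} (hg : g ∈ center H) :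
    χ g = χ 1 := by
  obtain ⟨c, hc⟩ := H932.PS11.central_mul hχ hg
  have hg1 : χ 1 ≠ 0 := Cfsg.Agent.Characters.Core.isIrr_apply_one_ne_zero hχ
  have h2 : χ g = c * χ 1 := by rw [← hc 1, mul_one]
  have hcp : c ^ orderOf g = 1 := by
    have h3 := H932.PS11.central_pow hc (orderOf g) 1
    rw [pow_orderOf_eq_one, one_mul] at h3
    exact mul_right_cancel₀ hg1 (by rw [one_mul]; exact h3.symm)
  have hro : orderOf c ∣ orderOf g := orderOf_dvd_of_pow_eq_one hcp
  have hog : orderOf g ∣ Nat.card (center H) := by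
    have := orderOf_dvd_natCard (⟨g, hg⟩ : center H)
    rwa [Subgroup.orderOf_mk] at this
  have hd : orderOf c ∣ charDegree χ :=
    H932.PS11.dvd_degree (r := orderOf c) hperf hg (IsPrimitiveRoot.orderOf c) hχ h2
  have h1 : orderOf c = 1 := Nat.eq_one_of_dvd_coprimes hcop hd (hro.trans hog)
  rw [h2, orderOf_eq_one_iff.1 h1, one_mul]

/-- The covers of `U₆(2)` have no degree `7`. -/
theorem not_hasDeg {H : Type v} [Group H] [Finite H] (hq : IsQuasisimple H) {F : Type} [Field F] [Fintype F]
    (hF : Fintype.card F = 4) (e : H ⧸ center H ≃* PSU 6 F 2) (hc : Nat.card (center H) ∣ 12) : ¬ HasDeg 7 H := by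
  rintro ⟨χ, hχ⟩
  have hs : IsSimpleGroup (H ⧸ center H) := hq.2
  have hna : ¬ ∀ a b : H ⧸ center H, a * b = b * a := not_comm hq.1.commutator_eq_top (center H)
  refine not_hasDeg_psu hF hna e ?_
  rw [← hχ]
  refine hasDeg_quotient (center H) fun g hg => ?_
  refine center_trivial hq.1.commutator_eq_top χ.2 ?_ hg
  rw [hχ]
  exact Nat.Coprime.coprime_dvd_right hc (by norm_num)

/-! ### Simple groups of small order -/

/-- The simple groups of order dividing `2¹⁷ 3⁷ 7` have degree `7`. -/
theorem hasDeg_seven (OT : OrderTable.{u}) {K : Type u} [Group K] [Finite K] (hK : IsKnownSimple' K)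
    (hna : ¬ ∀ a b : K, a * b = b * a) (hd : Nat.card K ∣ 2006581248) : HasDeg 7 K := by
  obtain ⟨g, hg, hr, ho⟩ := OrdDiv.exists_good OT hK hna (l := [(2, 17), (3, 7), (7, 1)]) (N := 2006581248)
    (by decide +kernel) hd
  rw [show cands [(2, 17), (3, 7), (7, 1)] 2006581248 = [.psl 3 2, .psl 2 8, .psl 2 7, .psu 3 3] by decide +kernel] at hg
  have h7 : ∀ {F : Type} [Field F] [Fintype F], Fintype.card F = 7 →
      (K ≃* Matrix.ProjectiveSpecialLinearGroup (Fin 2) F) → HasDeg 7 K := by
    intro F _ _ hF e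
    have := H604.DM.hasDeg_psl (F := F) (n := 2) le_rfl
    rw [hF] at this
    norm_num at this
    exact this.congr e
  simp only [List.mem_cons, List.not_mem_nil, or_false] at hg
  rcases hg with rfl | rfl | rfl | rfl
  · obtain ⟨F, _, _, hF, ⟨e⟩⟩ := hr
    have hp7 : Fact (Nat.Prime 7) := ⟨by norm_num⟩
    obtain ⟨f⟩ := S0255.result (F := ZMod 7) (K := F) (ZMod.card 7) hF
    exact h7 (ZMod.card 7) (e.trans f.symm)
  · obtain ⟨F, _, _, hF, ⟨e⟩⟩ := hr
    have h := (H464.PslDeg.psl_degrees (F := F) (by rw [hF]; norm_num)).2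
    rw [hF] at h
    exact (hasDeg_of_mem h).congr e
  · obtain ⟨F, _, _, hF, ⟨e⟩⟩ := hr
    exact h7 hF e
  · obtain ⟨F, _, _, hF, ⟨e⟩⟩ := hr
    have h := (H664.R1.U3.degrees_red (q := 3) hF le_rfl e).1
    norm_num at h
    exact hasDeg_of_mem h

/-- The simple groups of order dividing `2¹⁷ 3⁷ 5 7 11` and divisible by `11`. -/
theorem eleven_cases (OT : OrderTable.{u}) {K : Type u} [Group K] [Finite K] (hK : IsKnownSimple' K)
    (hna : ¬ ∀ a b : K, a * b = b * a) (hd : Nat.card K ∣ 110361968640) (h11 : 11 ∣ Nat.card K) :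
    55 ∣ Nat.card K ∧ (7 ∣ Nat.card K → (Nat.card K = 443520 ∧ Spor.IsoM22 K) ∨
      ∃ (F : Type) (_ : Field F) (_ : Fintype F), Fintype.card F = 4 ∧ Nonempty (K ≃* PSU 6 F 2)) := by
  obtain ⟨g, hg, hr, ho⟩ := OrdDiv.exists_good OT hK hna (l := [(2, 17), (3, 7), (5, 1), (7, 1), (11, 1)])
    (N := 110361968640) (by decide +kernel) hd
  have hg' : g ∈ (cands [(2, 17), (3, 7), (5, 1), (7, 1), (11, 1)] 110361968640).filter
      (fun g => ordN g % 11 == 0) := by
    rw [List.mem_filter]
    refine ⟨hg, ?_⟩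
    rw [ho] at h11
    rw [beq_iff_eq]
    exact Nat.mod_eq_zero_of_dvd h11
  rw [show (cands [(2, 17), (3, 7), (5, 1), (7, 1), (11, 1)] 110361968640).filter
      (fun g => ordN g % 11 == 0) = [.psl 2 11, .psu 5 2, .psu 6 2, .m11, .m12, .m22] by decide +kernel] at hg'
  simp only [List.mem_cons, List.not_mem_nil, or_false] at hg'
  rcases hg' with rfl | rfl | rfl | rfl | rfl | rfl
  · have h : Nat.card K = 660 := ho.trans (by decide +kernel)
    rw [h]; norm_num
  · have h : Nat.card K = 13685760 := ho.trans (by decide +kernel)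
    rw [h]; norm_num
  · have h : Nat.card K = 9196830720 := ho.trans (by decide +kernel)
    refine ⟨by rw [h]; norm_num, fun _ => Or.inr ?_⟩
    obtain ⟨F, i1, i2, hF, e⟩ := hr
    exact ⟨F, i1, i2, by rw [hF]; norm_num, e⟩
  · have h : Nat.card K = 7920 := ho.trans (by decide +kernel)
    rw [h]; norm_num
  · have h : Nat.card K = 95040 := ho.trans (by decide +kernel)
    rw [h]; norm_num
  · have h : Nat.card K = 443520 := ho.trans (by decide +kernel)
    exact ⟨by rw [h]; norm_num, fun _ => Or.inl ⟨h, hr⟩⟩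

/-! ### The row -/

theorem solvable_of_dvd {M : Type*} [Group M] [Finite M] {n : ℕ} (h : Nat.card M = n) (hn : n ∈ [2, 4, 6, 12, 41472,
    82944, 124416, 248832]) : Group.IsSolvable M := by
  simp only [List.mem_cons, List.not_mem_nil, or_false] at hn
  rcases hn with rfl | rfl | rfl | rfl | rfl | rfl | rfl | rfl
  · exact H168.NoSolv.solvable_of_two_three (a := 1) (b := 0) (by rw [h]; norm_num)
  · exact H168.NoSolv.solvable_of_two_three (a := 2) (b := 0) (by rw [h]; norm_num)
  · exact H168.NoSolv.solvable_of_two_three (a := 1) (b := 1) (by rw [h]; norm_num)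
  · exact H168.NoSolv.solvable_of_two_three (a := 2) (b := 1) (by rw [h]; norm_num)
  · exact H168.NoSolv.solvable_of_two_three (a := 9) (b := 4) (by rw [h]; norm_num)
  · exact H168.NoSolv.solvable_of_two_three (a := 10) (b := 4) (by rw [h]; norm_num)
  · exact H168.NoSolv.solvable_of_two_three (a := 9) (b := 5) (by rw [h]; norm_num)
  · exact H168.NoSolv.solvable_of_two_three (a := 10) (b := 5) (by rw [h]; norm_num)

/-- No cover of `M₂₂` has a centre of order divisible by `81`. -/
theorem false_m22 {G : Type u} [Group G] [Finite G] (hG : Group.IsPerfect G) (N : Subgroup G) [N.Normal]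
    (hs : IsSimpleGroup (G ⧸ N)) (hna : ¬ ∀ a b : G ⧸ N, a * b = b * a) (hc : Nat.card (G ⧸ N) = 443520)
    (h22 : Spor.IsoM22 (G ⧸ N)) (hN : Nat.card N ∣ 248832) (h81 : 3 ^ 4 ∣ Nat.card N) (hsolv : Group.IsSolvable N) :
    False := by
  obtain ⟨E, _, _, h1, ⟨h3⟩, h4⟩ := H456.DM.Cover.cover_of hG N hs hna hsolv Nat.prime_three
    (H294.DM.gl_all Nat.prime_three (m := Nat.card N) (k := 5) (n := Nat.card (G ⧸ N))
      (fun h => absurd (h.trans hN) (by norm_num)) (by rw [hc]; decide +kernel))
  obtain ⟨f⟩ := h22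
  have h5 := center_dvd_cyclic h1 S2036.result (h3.trans f)
  rw [h4] at h5
  have h6 : 3 ^ 4 ∣ 3 ^ (Nat.card N).factorization 3 :=
    pow_dvd_pow 3 ((Nat.prime_three.pow_dvd_iff_le_factorization Nat.card_pos.ne').1 h81)
  exact absurd (h6.trans h5) (by norm_num)

/-- **DM26**, with the classification and the Schreier property as hypotheses -/
theorem row_u6_of {G : Type u} {H : Type v} [Group G] [Finite G] [Group H] [Finite H] (OT : OrderTable.{u})
    (hS : ∀ (X : Type u) [Group X] [Finite X] [IsSimpleGroup X], IsKnownSimple' X)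
    (hSch : ∀ (K : Type u) [Group K] [Finite K], IsSimpleGroup K → (¬ ∀ a b : K, a * b = b * a) → Schreier.Basic.Sch K)
    (hH : IsQuasisimple H) {F : Type} [Field F] [Fintype F] (hF : Fintype.card F = 4)
    (e : H ⧸ center H ≃* PSU 6 F 2) (h2 : 2 ∣ Nat.card (center H)) (hd : SameDeg G H) : Nonempty (G ≃* H) := by
  have hz : Nat.card (center H) ∣ 12 := by
    have h1 := center_dvd hH (S2091.result hF) e
    rwa [Nat.card_congr (Multiplicative.toAdd (α := ZMod 3 × ZMod 2 × ZMod 2)), Nat.card_prod, Nat.card_prod,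
      Nat.card_zmod, Nat.card_zmod] at h1
  have hz' : Nat.card (center H) ∈ [2, 4, 6, 12] := by
    have h1 : Nat.card (center H) ≤ 12 := Nat.le_of_dvd (by norm_num) hz
    generalize Nat.card (center H) = z at h1 hz h2
    interval_cases z <;> first | (exfalso; revert hz; decide) | (exfalso; revert h2; decide) | decide
  have hcH : Nat.card H = 9196830720 * Nat.card (center H) := by
    rw [Subgroup.card_eq_card_quotient_mul_card_subgroup (center H), Nat.card_congr e.toEquiv, H18.USix.card_psu hF]
  have hcG : Nat.card G = 9196830720 * Nat.card (center H) := hd.card_eq.trans hcH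
  have hP : Group.IsPerfect G := hd.perfect hH.1
  have hno7 : ¬ HasDeg 7 G := fun h => not_hasDeg hH hF e hz (hd.hasDeg.1 h)
  have hp7 : Fact (Nat.Prime 7) := ⟨by norm_num⟩
  have hp11 : Fact (Nat.Prime 11) := ⟨by norm_num⟩
  have hGN : Nat.card G ∣ 110361968640 := by
    rw [hcG, show 110361968640 = 9196830720 * 12 by norm_num]
    exact Nat.mul_dvd_mul_left _ hz
  obtain ⟨K, _, _, _, f, hf, hna, h11⟩ := Quot.exists_quot hSch hP (p := 11)
    (by rw [hcG]; exact Dvd.dvd.mul_right (by norm_num) _) (fun h => absurd (h.trans hGN) (by norm_num))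
  obtain ⟨T, _, _, _, g, hg, hnaT, h7⟩ := Quot.exists_quot hSch hP (p := 7)
    (by rw [hcG]; exact Dvd.dvd.mul_right (by norm_num) _) (fun h => absurd (h.trans hGN) (by norm_num))
  have hKG : Nat.card K ∣ Nat.card G := Subgroup.card_dvd_of_surjective f hf
  obtain ⟨h55, hcases⟩ := eleven_cases OT (hS K) hna (hKG.trans hGN) h11
  have h7K : 7 ∣ Nat.card K := by
    by_contra h
    have hne : Nat.card K ≠ Nat.card T := by
      intro h'
      exact h (by rw [h']; exact h7)
    have h1 : Nat.card K * Nat.card T ∣ 110361968640 := (Quot.mul_dvd_of_quot hf hg hne).trans hGN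
    have h3 : Nat.card T ∣ 2006581248 := by
      obtain ⟨k, hk⟩ := h55
      rw [hk, mul_assoc, show 110361968640 = 55 * 2006581248 by norm_num] at h1
      exact (Dvd.intro_left k rfl).trans (Nat.dvd_of_mul_dvd_mul_left (by norm_num) h1)
    exact hno7 ((hasDeg_seven OT (hS T) hnaT h3).inflate hg)
  -- the kernel
  have eK : G ⧸ f.ker ≃* K := QuotientGroup.quotientKerEquivOfSurjective f hf
  have hsK : IsSimpleGroup (G ⧸ f.ker) := Cover.simple_of_equiv inferInstance eK.symm
  have hnaK : ¬ ∀ a b : G ⧸ f.ker, a * b = b * a := by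
    intro h
    apply hna
    intro a b
    apply eK.symm.injective
    rw [map_mul, map_mul]
    exact h _ _
  have hcN := Subgroup.card_eq_card_quotient_mul_card_subgroup f.ker
  rw [Nat.card_congr eK.toEquiv, hcG] at hcN
  rcases hcases h7K with ⟨h, h22⟩ | ⟨F', _, _, hF', ⟨ε⟩⟩
  · exfalso
    rw [h] at hcN
    have hN : Nat.card f.ker = 20736 * Nat.card (center H) := by omega
    refine false_m22 hP f.ker hsK hnaK ((Nat.card_congr eK.toEquiv).trans h) ?_ ?_ ?_ ?_
    · obtain ⟨i⟩ := h22
      exact ⟨eK.trans i⟩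
    · rw [hN, show 248832 = 20736 * 12 by norm_num]
      exact Nat.mul_dvd_mul_left _ hz
    · rw [hN]
      exact Dvd.dvd.mul_right (by norm_num) _
    · refine solvable_of_dvd hN ?_
      simp only [List.mem_cons, List.not_mem_nil, or_false] at hz'
      rcases hz' with h | h | h | h <;> rw [h] <;> decide
  · rw [Nat.card_congr ε.toEquiv, H18.USix.card_psu hF'] at hcN
    have hN : Nat.card f.ker = Nat.card (center H) := by omega
    have hsolv : Group.IsSolvable f.ker := by
      refine solvable_of_dvd hN ?_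
      simp only [List.mem_cons, List.not_mem_nil, or_false] at hz' ⊢
      omega
    have hbig : Nat.card (G ⧸ f.ker) = 9196830720 :=
      (Nat.card_congr eK.toEquiv).trans ((Nat.card_congr ε.toEquiv).trans (H18.USix.card_psu hF'))
    have hle : f.ker ≤ center G := by
      refine Cover.le_center_of hP f.ker hsK hsolv ?_
      intro l hl j hj hdj hdvd
      rw [hbig] at hdvd
      rw [hN] at hdj
      have h12 : l ^ j ∣ 12 := hdj.trans hz
      have hl12 : l ∣ 12 := (dvd_pow_self l (by omega)).trans h12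
      have hl3 : l = 2 ∨ l = 3 := by
        have h1 : l ∣ 2 * 2 * 3 := by norm_num; exact hl12
        rcases (hl.dvd_mul).1 h1 with h1 | h1
        · rcases (hl.dvd_mul).1 h1 with h1 | h1 <;> left <;> exact (Nat.prime_dvd_prime_iff_eq hl Nat.prime_two).1 h1
        · right; exact (Nat.prime_dvd_prime_iff_eq hl Nat.prime_three).1 h1
      rcases hl3 with rfl | rfl
      · exact H294.DM.gl_all Nat.prime_two (m := 12) (k := 2) (n := 9196830720) (by norm_num) (by decide +kernel) j
          h12 hdvd
      · exact H294.DM.gl_all Nat.prime_three (m := 12) (k := 1) (n := 9196830720) (by norm_num) (by decide +kernel) j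
          h12 hdvd
    have hcen : center G = f.ker := by
      refine le_antisymm ?_ hle
      intro x hx
      rw [← QuotientGroup.eq_one_iff]
      have h1 : (x : G ⧸ f.ker) ∈ center (G ⧸ f.ker) := by
        rw [mem_center_iff]
        intro y
        obtain ⟨y, rfl⟩ := QuotientGroup.mk_surjective y
        rw [← QuotientGroup.mk_mul, ← QuotientGroup.mk_mul, mem_center_iff.1 hx y]
      rw [center_eq_bot hnaK, mem_bot] at h1
      exact h1
    let ψ : G ⧸ center G ≃* G ⧸ f.ker := QuotientGroup.quotientMulEquivOfEq hcen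
    have hq : IsQuasisimple G := ⟨hP, Cover.simple_of_equiv hsK ψ.symm⟩
    let κ : PSU 6 F' 2 ≃* PSU 6 F 2 :=
      LieClassical.FieldTransfer.psuCongr 6 2 (FiniteField.ringEquivOfCardEq (hF'.trans hF.symm))
    exact H277.DM.u6_cover hq hH hF (((ψ.trans eK).trans ε).trans κ) e (by rw [hcen, hN])

end Cfsg.Agent.H456.DM.USix
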